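import Cfsg.Agent.H141.Ux.Stmts

/-!
# UX (S5716, unbounded rank), task UB2: `closure {x, y}` is not imprimitive (linear case)
-/

set_option autoImplicit false

namespace Cfsg.Agent.H112.Ux

open Module Cfsg.Agent.H847.Bs Cfsg.Agent.H141.Ux Subgroup

section

variable {F V : Type*} [Field F] [AddCommGroup V] [Module F V]

theorem inv_iff_map [Module.Finite F V] {g : V ≃ₗ[F] V} {Y : Submodule F V} :
    Inv g Y ↔ Y.map (g : V →ₗ[F] V) = Y := by
  constructor
  · intro h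
    refine Submodule.eq_of_le_of_finrank_eq ?_ (LinearEquiv.finrank_map_eq g Y)
    rintro _ ⟨v, hv, rfl⟩
    exact h v hv
  · intro h v hv
    rw [← h]
    exact ⟨v, hv, rfl⟩

/-- the stabiliser of a subspace -/
def stb (Y : Submodule F V) : Subgroup (V ≃ₗ[F] V) where
  carrier := {g | Y.map (g : V →ₗ[F] V) = Y}
  one_mem' := Submodule.map_id Y
  mul_mem' := by
    intro a b ha hb
    show Y.map ((a * b : V ≃ₗ[F] V) : V →ₗ[F] V) = Y
    have h1 : ((a * b : V ≃ₗ[F] V) : V →ₗ[F] V) = (a : V →ₗ[F] V).comp (b : V →ₗ[F] V) := rfl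
    rw [h1, Submodule.map_comp, show Y.map (b : V →ₗ[F] V) = Y from hb]
    exact ha
  inv_mem' := by
    intro a ha
    show Y.map ((a⁻¹ : V ≃ₗ[F] V) : V →ₗ[F] V) = Y
    have h2 : Y.map (a : V →ₗ[F] V) = Y := ha
    conv_lhs => rw [← h2]
    rw [← Submodule.map_comp]
    have h1 : ((a⁻¹ : V ≃ₗ[F] V) : V →ₗ[F] V).comp (a : V →ₗ[F] V) = LinearMap.id := by
      ext v
      exact a.symm_apply_apply v
    rw [h1, Submodule.map_id]

theorem mem_stb {Y : Submodule F V} {g : V ≃ₗ[F] V} : g ∈ stb Y ↔ Y.map (g : V →ₗ[F] V) = Y := Iff.rfl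

theorem map_mul (a b : V ≃ₗ[F] V) (Y : Submodule F V) : Y.map ((a * b : V ≃ₗ[F] V) : V →ₗ[F] V) =
    (Y.map (b : V →ₗ[F] V)).map (a : V →ₗ[F] V) := Submodule.map_comp _ _ _

/-- the sum of the first `j` images -/
def Ts (z : V ≃ₗ[F] V) (Y : Submodule F V) : ℕ → Submodule F V
  | 0 => ⊥
  | j + 1 => Ts z Y j ⊔ Y.map ((z ^ j : V ≃ₗ[F] V) : V →ₗ[F] V)

theorem map_Ts_le (z : V ≃ₗ[F] V) (Y : Submodule F V) (j : ℕ) :
    (Ts z Y j).map (z : V →ₗ[F] V) ≤ Ts z Y (j + 1) := by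
  induction j with
  | zero => rw [Ts, Submodule.map_bot]; exact bot_le
  | succ j ih =>
    rw [Ts, Submodule.map_sup, ← map_mul, ← pow_succ']
    exact sup_le (ih.trans le_sup_left) le_sup_right

theorem Ts_le {z : V ≃ₗ[F] V} {Y : Submodule F V} {S : Submodule F V} {j : ℕ}
    (h : ∀ i < j, Y.map ((z ^ i : V ≃ₗ[F] V) : V →ₗ[F] V) ≤ S) : Ts z Y j ≤ S := by
  induction j with
  | zero => exact bot_le
  | succ j ih => exact sup_le (ih fun i hi => h i (hi.trans (Nat.lt_succ_self j))) (h j (Nat.lt_succ_self j))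

variable [Module.Finite F V]

theorem finrank_Ts {z : V ≃ₗ[F] V} {Y : Submodule F V} {l : ℕ}
    (hd : ∀ j < l, Disjoint (Ts z Y j) (Y.map ((z ^ j : V ≃ₗ[F] V) : V →ₗ[F] V))) :
    ∀ j ≤ l, finrank F (Ts z Y j) = j * finrank F Y := by
  intro j
  induction j with
  | zero => intro _; rw [Ts, finrank_bot, zero_mul]
  | succ j ih =>
    intro hj
    have h1 := Submodule.finrank_sup_add_finrank_inf_eq (Ts z Y j) (Y.map ((z ^ j : V ≃ₗ[F] V) : V →ₗ[F] V))
    rw [(hd j hj).eq_bot, finrank_bot, add_zero, ih (Nat.le_of_succ_le hj), LinearEquiv.finrank_map_eq] at h1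
    rw [Ts, h1, Nat.add_mul, one_mul]

omit [Module.Finite F V] in
theorem fix_Ts {z : V ≃ₗ[F] V} {Y : Submodule F V} {l : ℕ}
    (hd : ∀ j < l, Disjoint (Ts z Y j) (Y.map ((z ^ j : V ≃ₗ[F] V) : V →ₗ[F] V))) {s : V} (hs : z s = s) :
    ∀ j < l, s ∈ Ts z Y j → s = 0 := by
  intro j
  induction j with
  | zero => intro _ h; exact (Submodule.mem_bot F).1 h
  | succ j ih =>
    intro hj h
    obtain ⟨s', hs', v, hv, hsv⟩ := Submodule.mem_sup.1 h
    have h1 : z v ∈ Y.map ((z ^ (j + 1) : V ≃ₗ[F] V) : V →ₗ[F] V) := by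
      rw [pow_succ', map_mul]
      exact ⟨v, hv, rfl⟩
    have h3 : z v = s - z s' := by
      have h4 := congrArg z hsv
      rw [map_add, hs] at h4
      exact eq_sub_of_add_eq' h4
    have h2 : z v ∈ Ts z Y (j + 1) := by
      rw [h3]
      exact Submodule.sub_mem _ h (map_Ts_le z Y j ⟨s', hs', rfl⟩)
    have h4 : z v = 0 := (Submodule.disjoint_def.1 (hd (j + 1) hj)) _ h2 h1
    have h5 : v = 0 := (LinearEquiv.map_eq_zero_iff z).1 h4
    rw [h5, add_zero] at hsv
    exact ih (Nat.lt_of_succ_lt hj) (hsv ▸ hs')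

end

/-- **UB2** -/
theorem ub2 : UB2 := by
  intro F V _ _ _ _ _ e x y z E C hst _ hx hirr D hD h3
  classical
  have : Finite V := Module.finite_of_finite F
  have : Finite (V ≃ₗ[F] V) := DFunLike.finite _
  obtain ⟨a₀, ha₀, hxa⟩ := hx
  have hE : E ≠ ⊥ := by
    rintro rfl
    rw [(Submodule.mem_bot F).1 ha₀, map_zero] at hxa
    exact hxa C.zero_mem
  have he : 1 ≤ e := by
    rw [← hst.dim]
    exact Submodule.one_le_finrank_iff.2 hE
  set H := closure {x, y} with hH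
  have hxH : x ∈ H := subset_closure (by simp)
  have hyH : y ∈ H := subset_closure (by simp)
  have hzH : z ∈ H := (zpowers_le.2 hyH) hst.mem
  have hmap : ∀ Y : Submodule F V, (∃ h ∈ H, Y = D.map (h : V →ₗ[F] V)) → ∀ g ∈ H,
      ∃ h ∈ H, Y.map (g : V →ₗ[F] V) = D.map (h : V →ₗ[F] V) := by
    rintro _ ⟨h, hh, rfl⟩ g hg
    exact ⟨g * h, H.mul_mem hg hh, (map_mul g h D).symm⟩
  have hrk : ∀ Y : Submodule F V, (∃ h ∈ H, Y = D.map (h : V →ₗ[F] V)) → finrank F Y = finrank F D := by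
    rintro _ ⟨h, _, rfl⟩
    exact LinearEquiv.finrank_map_eq h D
  have hdisj : ∀ Y : Submodule F V, (∃ h ∈ H, Y = D.map (h : V →ₗ[F] V)) → ∀ Y' : Submodule F V,
      (∃ h ∈ H, Y' = D.map (h : V →ₗ[F] V)) → Y ≠ Y' → Disjoint Y Y' := by
    intro Y hY Y' hY' hne
    have h1 : Y' ≤ sSup ({Y : Submodule F V | ∃ h ∈ H, Y = D.map (h : V →ₗ[F] V)} \ {Y}) :=
      le_sSup ⟨hY', fun h => hne h.symm⟩
    exact (hD.indep hY).mono_right h1
  have hzE : Inv z E := by
    rw [inv_iff_map]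
    have h1 : y ∈ stb E := inv_iff_map.1 hst.inv
    exact (zpowers_le.2 h1) hst.mem
  have hdec : ∀ v : V, ∃ a ∈ E, ∃ c ∈ C, a + c = v := fun v =>
    Submodule.mem_sup.1 (hst.compl.sup_eq_top ▸ Submodule.mem_top)
  have hfix : ∀ v, z v = v → v ∈ C := by
    intro v hv
    obtain ⟨a, ha, c, hc, rfl⟩ := hdec v
    rw [map_add, hst.fix c hc, add_left_inj] at hv
    rw [hst.fpf a ha hv, zero_add]
    exact hc
  have hsub : ∀ v, z v - v ∈ E := by
    intro v
    obtain ⟨a, ha, c, hc, rfl⟩ := hdec v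
    rw [map_add, hst.fix c hc, add_sub_add_right_eq_sub]
    exact E.sub_mem (hzE a ha) ha
  have key : ∀ Y : Submodule F V, (∃ h ∈ H, Y = D.map (h : V →ₗ[F] V)) → Y.map (z : V →ₗ[F] V) = Y := by
    intro Y hY
    by_contra hne
    let f : Submodule F V → Submodule F V := fun W => W.map (z : V →ₗ[F] V)
    have hit : ∀ j : ℕ, f^[j] Y = Y.map ((z ^ j : V ≃ₗ[F] V) : V →ₗ[F] V) := by
      intro j
      induction j with
      | zero => exact (Submodule.map_id Y).symm
      | succ j ih => rw [Function.iterate_succ_apply', ih, pow_succ', map_mul]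
    have hper : Function.IsPeriodicPt f (orderOf z) Y := by
      show f^[orderOf z] Y = Y
      rw [hit, pow_orderOf_eq_one]
      exact Submodule.map_id Y
    set l := Function.minimalPeriod f Y with hl
    have hl0 : l ∣ orderOf z := hper.minimalPeriod_dvd
    have hl1 : l ≠ 1 := fun h => hne (Function.minimalPeriod_eq_one_iff_isFixedPt.1 h)
    have hlpos : 0 < l := Nat.pos_of_dvd_of_pos hl0 (orderOf_pos z)
    obtain ⟨r, hr, hrl⟩ := Nat.exists_prime_and_dvd hl1
    have h4 := hst.ord.2 r hr (hrl.trans hl0)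
    have := Fact.mk hr
    have h5 : ((Nat.card F : ℕ) : ZMod r) ≠ 0 := by
      intro h0
      have h6 : ((Nat.card F : ℕ) : ZMod r) ^ e = 1 := by rw [← h4]; exact pow_orderOf_eq_one _
      rw [h0, zero_pow (by omega)] at h6
      exact zero_ne_one h6
    have h6 : e ∣ r - 1 := by
      rw [← h4]
      exact orderOf_dvd_of_pow_eq_one (ZMod.pow_card_sub_one_eq_one h5)
    have h7 : e ≤ r - 1 := Nat.le_of_dvd (by have := hr.two_le; omega) h6
    have h8 : r ≤ l := Nat.le_of_dvd hlpos hrl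
    have hd : ∀ j < l, Disjoint (Ts z Y j) (Y.map ((z ^ j : V ≃ₗ[F] V) : V →ₗ[F] V)) := by
      intro j hj
      refine Disjoint.mono_left ?_ (hD.indep (hmap Y hY (z ^ j) (H.pow_mem hzH j))).symm
      refine Ts_le fun i hi => le_sSup ⟨hmap Y hY (z ^ i) (H.pow_mem hzH i), fun h => ?_⟩
      have h9 := Function.iterate_injOn_Iio_minimalPeriod (f := f) (x := Y) (Set.mem_Iio.2 (hi.trans hj))
        (Set.mem_Iio.2 hj) (by
          show f^[i] Y = f^[j] Y
          rw [hit, hit]; exact h)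
      omega
    have h9 := finrank_Ts hd (l - 1) (Nat.sub_le _ _)
    have h10 : Disjoint C (Ts z Y (l - 1)) := by
      rw [Submodule.disjoint_def]
      intro s hs hs'
      exact fix_Ts hd (hst.fix s hs) (l - 1) (by omega) hs'
    have h11 := Submodule.finrank_add_finrank_le_of_disjoint h10
    have h12 := Submodule.finrank_add_eq_of_isCompl hst.compl
    rw [h9, hrk Y hY] at h11
    rw [hst.dim] at h12
    have h13 : (l - 1) * finrank F D ≤ e := by omega
    have h14 : e * 3 ≤ (l - 1) * finrank F D := Nat.mul_le_mul (by omega) h3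
    omega
  obtain ⟨Y, hY, hYE⟩ : ∃ Y : Submodule F V, (∃ h ∈ H, Y = D.map (h : V →ₗ[F] V)) ∧ Y ⊓ E ≠ ⊥ := by
    by_contra hne
    push Not at hne
    have h4 : ∀ Y : Submodule F V, (∃ h ∈ H, Y = D.map (h : V →ₗ[F] V)) → Y ≤ C := by
      intro Y hY v hv
      apply hfix
      have h5 : z v - v ∈ Y ⊓ E := ⟨Y.sub_mem (inv_iff_map.2 (key Y hY) v hv) hv, hsub v⟩
      rw [hne Y hY] at h5
      exact sub_eq_zero.1 ((Submodule.mem_bot F).1 h5)
    have h5 : (⊤ : Submodule F V) ≤ C := by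
      rw [← hD.span]
      exact sSup_le h4
    have h6 := hst.compl.disjoint
    rw [Submodule.disjoint_def] at h6
    apply hE
    rw [Submodule.eq_bot_iff]
    exact fun v hv => h6 v hv (h5 Submodule.mem_top)
  have hEY : E ≤ Y := by
    rcases hst.irr (Y ⊓ E) inf_le_right (fun v hv => ⟨inv_iff_map.2 (key Y hY) v hv.1, hzE v hv.2⟩) with h | h
    · exact absurd h hYE
    · exact inf_eq_right.1 h
  have hout : ∀ Y' : Submodule F V, (∃ h ∈ H, Y' = D.map (h : V →ₗ[F] V)) → Y' ≠ Y → Y' ≤ C := by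
    intro Y' hY' hne v hv
    apply hfix
    have h5 : z v - v ∈ Y' := Y'.sub_mem (inv_iff_map.2 (key Y' hY') v hv) hv
    exact sub_eq_zero.1 ((Submodule.disjoint_def.1 (hdisj Y' hY' Y hY hne)) _ h5 (hEY (hsub v)))
  have hyY : y ∈ stb Y := by
    by_contra hne
    have h4 := hout _ (hmap Y hY y hyH) hne
    have h5 := hst.compl.disjoint
    rw [Submodule.disjoint_def] at h5
    obtain ⟨a, ha, ha0⟩ := Submodule.exists_mem_ne_zero_of_ne_bot hE
    have h6 : y a = 0 := h5 _ (hst.inv a ha) (h4 ⟨a, hEY ha, rfl⟩)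
    exact ha0 ((LinearEquiv.map_eq_zero_iff y).1 h6)
  have hxY : x ∈ stb Y := by
    by_contra hne
    exact hxa (hout _ (hmap Y hY x hxH) hne ⟨a₀, hEY ha₀, rfl⟩)
  have hHY : H ≤ stb Y := by
    rw [hH, closure_le]
    rintro g (rfl | rfl)
    · exact hxY
    · exact hyY
  rcases hirr Y fun h hh => inv_iff_map.2 (hHY hh) with h | h
  · have h4 := hrk Y hY
    rw [h, finrank_bot] at h4
    omega
  · apply hD.ne_top
    apply Submodule.eq_top_of_finrank_eq
    rw [← hrk Y hY, h, finrank_top]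

end Cfsg.Agent.H112.Ux
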